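/-
Certificate data of a coset enumeration.
-/
import Cfsg.Agent.Lib.CosetEnum.Sp44Z.Data

set_option autoImplicit false
set_option maxRecDepth 1000000

namespace CfsgLib.CosetEnum.Sp44Z

open CfsgLib.CosetEnum

/-- Justifications of the facts from 0. -/
def just0 : List ℕ := [0xfff, 0xfff, 0xfff, 0xfff, 0xfff, 0xfff, 0xfff, 0x1000060020010000100101d, 0xfff, 0x2000080020010000100101e, 0xfff, 0x30000a0020010000100101f, 0xfff, 0x40000c00200100001001020, 0xfff, 0xfff, 0x1000030000f00200100002001022, 0xfff, 0x1000040001100200100002001023, 0xfff, 0x1000050001300200100002001024, 0xfff, 0xfff, 0xfff, 0xfff, 0xfff, 0x3000040001900200100004001027, 0xfff, 0xfff, 0xfff, 0xfff, 0xfff, 0xfff, 0xfff, 0xfff, 0x70000f000220020010000700101f, 0x60000a0002200200100007001022, 0xfff, 0x7000110002500200100007001020, 0x60000c0002500200100007001023, 0xfff, 0xfff, 0x900015000290020010000800101f, 0xfff, 0x9000160002b00200100008001020, 0xfff, 0x800000000050001f0002d00400100008001055, 0x1e0000500002000090002d00000500020005055, 0xfff, 0xb00018000300020010000900101e, 0xfff, 0xa0000c0003200200100009001027, 0xfff, 0x1e00005000030000b0003400000500023005057, 0x350002f000120000d0003300032000340020050002300505b, 0x26000360002e0030000001c000000,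 0x360002f0020000000d00000b, 0x360002d0020000000d000014, 0x370002700200000018000006, 0x370002500200000018000012, 0x120001d00028000390020020000d002024, 0x290003000024000230000f00011000360002d0010070000800605b, 0x2a0003d000310030000000f000000, 0x3d000300020000001e00000b, 0x3e000180020000000f00000b, 0xd0001a000190001b000200001f00037000270040040000a00305f, 0x41000200020000001400000f, 0x17000150003e000180001000023000220003b0000080001800705c, 0x430002e0003600300000011000000, 0x43000370020000001100001c, 0x430003a00200000011000006, 0x430001f0020000001100000b, 0xa0003f00029000080000a0003f0000060001e00600c, 0x480002a00300000000000000, 0x8000480003f0030000000800000b, 0x200049000400030000000300000b, 0x3c000280004a0002400400000016000006, 0x2b0004a000320030000001f000012, 0x360002d0004a000340040000000d000014, 0x160004b0001900300000010000012, 0x170004b0001b00300000011000014, 0x4e000350020000000d00000f, 0x50000420020000001100000f, 0x900017000470001e0000e0000800400200008002054, 0x100007000220004c00021000050004900015000020040050000000401b, 0x5200021000540001d0001a0004f0001c00012000440060030001100305e, 0x550001c0020000001000000b, 0x46000330004d000140005200300200011002022, 0x570002c0020000000e000000, 0x1300011000440001700016000580001300011000440000090001100901a,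 0x58000590004400300000010000000, 0x14000590004600300000006000006, 0x59000470020000000e00000b, 0x13000590001700300000002000014, 0x59000450020000000e00001c, 0x53000380005a000560040000000b00000b, 0x54000210005b0000c00400000016000012, 0x5a000550020000000d00001c, 0x5a0004f0020000000d00001c, 0x5d0004b0020000000200001c, 0x5f000530020000000500001c, 0x140005c000140005c000140005c000140005c000140005c0005e0002600000c0000d00b015, 0x12000650001400300000005000006, 0x60000540020000000100001c, 0x400066000210006700400000000000012, 0x6400051000610001c00012000610001c0006400051000610001c00012000610001c00012000610001c0006400051000610001c00012000610001c000120000190000d00f016, 0x69000610020000000500001c, 0x69000620020000000500001c, 0x4000690001100300000000000012, 0x6c0005d0020000000000001c, 0x6c000630020000000000001c, 0x6e000030006d00002000040006a0001c00069000120006a0001c0006b0001a00069000120006a0001c000040006d000020006c000010006d000020006e000030006c000010006d00002000040006a0001c00069000120006a0001c000690001200002700005015017, 0x6f000660020000000000001c]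

theorem just0_ok : data.okChunk 0 just0 = true := by decide +kernel

theorem just0_len : just0.length = 113 := by decide +kernel

end CfsgLib.CosetEnum.Sp44Z
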